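import Cfsg.Agent.H700.F43.Mod

/-!
# The ratio bound for `F₄(3)` (S2464), common definitions (helper92)

* `BB` : the `Sp₆(3)`-invariant symplectic form of `V₁₄`;
* `c3` : real part of the cubic character of `F₃`;
* `FT D v = ∑ D(μ) c3 (BB μ v)`;
* `AA D` : the sum of `D` over the nonzero vectors.
-/

set_option autoImplicit false

namespace Cfsg.Agent.H92.RB

open Cfsg.Agent.H700.F43

/-- the invariant form of `V₁₄` -/
def BB (u v : V14) : F3 :=
  u 13 * v 0 - u 0 * v 13 + (u 1 * v 7 - u 7 * v 1) + (u 2 * v 8 - u 8 * v 2) + (u 3 * v 9 - u 9 * v 3) -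
    (u 4 * v 10 - u 10 * v 4) - (u 5 * v 11 - u 11 * v 5) - (u 6 * v 12 - u 12 * v 6)

/-- real part of the cubic character -/
noncomputable def c3 (t : F3) : ℝ := if t = 0 then 1 else -(1 / 2)

/-- the Fourier transform -/
noncomputable def FT (D : V14 → ℝ) (v : V14) : ℝ := ∑ μ : V14, D μ * c3 (BB μ v)

/-- the sum over the nonzero vectors -/
noncomputable def AA (D : V14 → ℝ) : ℝ := ∑ μ ∈ Finset.univ.erase (0 : V14), D μ

/-- invariance under `Sp₆(3)` -/
def Inv (D : V14 → ℝ) : Prop := ∀ (A : Sp) (X : V14 →ₗ[F3] V14), Rel A X → ∀ μ, D (X μ) = D μ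

end Cfsg.Agent.H92.RB
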